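import Cfsg.Agent.FiTwoTwoRep.Lanes
import Cfsg.Prelude.Def_Spor_Fi22

/-! Machine-generated: nine matrices of degree 78 over the field with 13 elements, as sparse rows
(column, entry). owner: helper52 -/

set_option maxRecDepth 100000

namespace Cfsg.Agent.FiTwoTwoRep

/-- data -/
def gen_a : SMat :=
  [[(0, 6), (1, 7), (39, 7), (73, 7)],
   [(0, 7), (1, 6), (39, 7), (73, 7)],
   [(2, 6), (22, 7), (44, 6), (68, 6)],
   [(3, 6), (4, 7), (45, 6), (71, 6)],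
   [(3, 7), (4, 6), (45, 6), (71, 6)],
   [(5, 6), (19, 6), (52, 6), (61, 7)],
   [(6, 6), (21, 6), (33, 6), (72, 7)],
   [(7, 6), (20, 7), (53, 7), (62, 7)],
   [(8, 6), (31, 7), (42, 6), (65, 6)],
   [(9, 3), (10, 3), (24, 3), (32, 3), (37, 3), (38, 3), (40, 10), (41, 10), (51, 10), (54, 10), (59, 3), (60, 3), (66, 3), (69, 3), (75, 10), (76, 10)],
   [(9, 3), (10, 3), (24, 10), (32, 10), (37, 3), (38, 3), (40, 10), (41, 10), (51, 3), (54, 3), (59, 3), (60, 3), (66, 10), (69, 10), (75, 3), (76, 3)],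
   [(11, 6), (28, 6), (49, 6), (57, 7)],
   [(12, 6), (30, 7), (50, 7), (58, 7)],
   [(13, 6), (14, 7), (55, 7), (64, 7)],
   [(13, 7), (14, 6), (55, 7), (64, 7)],
   [(15, 6), (26, 6), (48, 6), (70, 7)],
   [(16, 7), (77, 9)],
   [(17, 6), (25, 7), (36, 7), (74, 7)],
   [(18, 6), (35, 6), (46, 6), (67, 7)],
   [(5, 6), (19, 6), (52, 7), (61, 6)],
   [(7, 7), (20, 6), (53, 7), (62, 7)],
   [(6, 6), (21, 6), (33, 7), (72, 6)],
   [(2, 7), (22, 6), (44, 6), (68, 6)],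
   [(23, 6), (29, 7), (43, 7), (56, 7)],
   [(9, 3), (10, 10), (24, 3), (32, 3), (37, 3), (38, 10), (40, 3), (41, 10), (51, 10), (54, 3), (59, 3), (60, 10), (66, 3), (69, 10), (75, 3), (76, 3)],
   [(17, 7), (25, 6), (36, 7), (74, 7)],
   [(15, 6), (26, 6), (48, 7), (70, 6)],
   [(27, 6), (34, 7), (47, 6), (63, 6)],
   [(11, 6), (28, 6), (49, 7), (57, 6)],
   [(23, 7), (29, 6), (43, 7), (56, 7)],
   [(12, 7), (30, 6), (50, 7), (58, 7)],
   [(8, 7), (31, 6), (42, 6), (65, 6)],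
   [(9, 3), (10, 10), (24, 3), (32, 3), (37, 3), (38, 10), (40, 10), (41, 3), (51, 3), (54, 10), (59, 10), (60, 3), (66, 10), (69, 3), (75, 3), (76, 3)],
   [(6, 6), (21, 7), (33, 6), (72, 6)],
   [(27, 7), (34, 6), (47, 6), (63, 6)],
   [(18, 6), (35, 6), (46, 7), (67, 6)],
   [(17, 7), (25, 7), (36, 6), (74, 7)],
   [(9, 3), (10, 3), (24, 3), (32, 3), (37, 3), (38, 3), (40, 3), (41, 3), (51, 3), (54, 3), (59, 10), (60, 10), (66, 10), (69, 10), (75, 10), (76, 10)],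
   [(9, 3), (10, 3), (24, 10), (32, 10), (37, 3), (38, 3), (40, 3), (41, 3), (51, 10), (54, 10), (59, 10), (60, 10), (66, 3), (69, 3), (75, 3), (76, 3)],
   [(0, 7), (1, 7), (39, 6), (73, 7)],
   [(9, 10), (10, 10), (24, 3), (32, 10), (37, 3), (38, 3), (40, 3), (41, 3), (51, 10), (54, 3), (59, 3), (60, 3), (66, 10), (69, 3), (75, 3), (76, 10)],
   [(9, 10), (10, 10), (24, 10), (32, 3), (37, 3), (38, 3), (40, 3), (41, 3), (51, 3), (54, 10), (59, 3), (60, 3), (66, 3), (69, 10), (75, 10), (76, 3)],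
   [(8, 6), (31, 6), (42, 6), (65, 7)],
   [(23, 7), (29, 7), (43, 6), (56, 7)],
   [(2, 6), (22, 6), (44, 6), (68, 7)],
   [(3, 6), (4, 6), (45, 6), (71, 7)],
   [(18, 6), (35, 7), (46, 6), (67, 6)],
   [(27, 6), (34, 6), (47, 6), (63, 7)],
   [(15, 6), (26, 7), (48, 6), (70, 6)],
   [(11, 6), (28, 7), (49, 6), (57, 6)],
   [(12, 7), (30, 7), (50, 6), (58, 7)],
   [(9, 10), (10, 3), (24, 10), (32, 3), (37, 3), (38, 10), (40, 10), (41, 3), (51, 3), (54, 3), (59, 3), (60, 10), (66, 3), (69, 3), (75, 3), (76, 10)],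
   [(5, 6), (19, 7), (52, 6), (61, 6)],
   [(7, 7), (20, 7), (53, 6), (62, 7)],
   [(9, 10), (10, 3), (24, 3), (32, 10), (37, 3), (38, 10), (40, 3), (41, 10), (51, 3), (54, 3), (59, 10), (60, 3), (66, 3), (69, 3), (75, 10), (76, 3)],
   [(13, 7), (14, 7), (55, 6), (64, 7)],
   [(23, 7), (29, 7), (43, 7), (56, 6)],
   [(11, 7), (28, 6), (49, 6), (57, 6)],
   [(12, 7), (30, 7), (50, 7), (58, 6)],
   [(9, 3), (10, 3), (24, 3), (32, 10), (37, 10), (38, 10), (40, 3), (41, 3), (51, 3), (54, 10), (59, 3), (60, 3), (66, 3), (69, 10), (75, 3), (76, 10)],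
   [(9, 3), (10, 3), (24, 10), (32, 3), (37, 10), (38, 10), (40, 3), (41, 3), (51, 10), (54, 3), (59, 3), (60, 3), (66, 10), (69, 3), (75, 10), (76, 3)],
   [(5, 7), (19, 6), (52, 6), (61, 6)],
   [(7, 7), (20, 7), (53, 7), (62, 6)],
   [(27, 6), (34, 6), (47, 7), (63, 6)],
   [(13, 7), (14, 7), (55, 7), (64, 6)],
   [(8, 6), (31, 6), (42, 7), (65, 6)],
   [(9, 3), (10, 10), (24, 3), (32, 10), (37, 10), (38, 3), (40, 10), (41, 3), (51, 3), (54, 3), (59, 3), (60, 10), (66, 3), (69, 3), (75, 10), (76, 3)],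
   [(18, 7), (35, 6), (46, 6), (67, 6)],
   [(2, 6), (22, 6), (44, 7), (68, 6)],
   [(9, 3), (10, 10), (24, 10), (32, 3), (37, 10), (38, 3), (40, 3), (41, 10), (51, 3), (54, 3), (59, 10), (60, 3), (66, 3), (69, 3), (75, 3), (76, 10)],
   [(15, 7), (26, 6), (48, 6), (70, 6)],
   [(3, 6), (4, 6), (45, 7), (71, 6)],
   [(6, 7), (21, 6), (33, 6), (72, 6)],
   [(0, 7), (1, 7), (39, 7), (73, 6)],
   [(17, 7), (25, 7), (36, 7), (74, 6)],
   [(9, 10), (10, 3), (24, 3), (32, 3), (37, 10), (38, 3), (40, 3), (41, 10), (51, 3), (54, 10), (59, 3), (60, 10), (66, 10), (69, 3), (75, 3), (76, 3)],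
   [(9, 10), (10, 3), (24, 3), (32, 3), (37, 10), (38, 3), (40, 10), (41, 3), (51, 10), (54, 3), (59, 10), (60, 3), (66, 3), (69, 10), (75, 3), (76, 3)],
   [(16, 12), (77, 6)]]

/-- data -/
def gen_b : SMat :=
  [[(0, 7), (77, 4)],
   [(1, 6), (16, 7), (39, 7), (73, 6)],
   [(2, 6), (35, 6), (50, 6), (61, 6)],
   [(3, 6), (14, 7), (32, 6), (75, 7)],
   [(4, 6), (13, 7), (24, 7), (76, 6)],
   [(5, 6), (30, 6), (44, 6), (67, 6)],
   [(6, 3), (17, 3), (23, 3), (27, 3), (29, 10), (34, 10), (45, 10), (51, 10), (54, 3), (55, 3), (64, 3), (66, 3), (69, 10), (71, 10), (72, 10), (74, 10)],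
   [(7, 6), (28, 6), (48, 7), (65, 7)],
   [(8, 6), (26, 7), (53, 7), (57, 6)],
   [(9, 6), (38, 7), (47, 7), (56, 6)],
   [(10, 6), (37, 7), (43, 6), (63, 7)],
   [(11, 6), (20, 7), (42, 6), (70, 7)],
   [(12, 6), (19, 7), (46, 7), (68, 6)],
   [(4, 7), (13, 6), (24, 7), (76, 6)],
   [(3, 7), (14, 6), (32, 6), (75, 7)],
   [(15, 6), (31, 6), (49, 7), (62, 7)],
   [(1, 7), (16, 6), (39, 7), (73, 6)],
   [(6, 3), (17, 3), (23, 3), (27, 3), (29, 10), (34, 10), (45, 3), (51, 3), (54, 10), (55, 10), (64, 10), (66, 10), (69, 3), (71, 3), (72, 10), (74, 10)],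
   [(18, 6), (22, 7), (52, 6), (58, 7)],
   [(12, 7), (19, 6), (46, 7), (68, 6)],
   [(11, 7), (20, 6), (42, 6), (70, 7)],
   [(21, 6), (36, 7), (40, 6), (60, 7)],
   [(18, 7), (22, 6), (52, 6), (58, 7)],
   [(6, 3), (17, 3), (23, 3), (27, 3), (29, 3), (34, 3), (45, 10), (51, 10), (54, 10), (55, 10), (64, 10), (66, 10), (69, 10), (71, 10), (72, 3), (74, 3)],
   [(4, 7), (13, 7), (24, 6), (76, 6)],
   [(25, 6), (33, 7), (41, 7), (59, 6)],
   [(8, 7), (26, 6), (53, 7), (57, 6)],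
   [(6, 3), (17, 3), (23, 3), (27, 3), (29, 3), (34, 3), (45, 3), (51, 3), (54, 3), (55, 3), (64, 3), (66, 3), (69, 3), (71, 3), (72, 3), (74, 3)],
   [(7, 6), (28, 6), (48, 6), (65, 6)],
   [(6, 10), (17, 10), (23, 3), (27, 3), (29, 3), (34, 3), (45, 3), (51, 10), (54, 10), (55, 3), (64, 3), (66, 10), (69, 10), (71, 3), (72, 10), (74, 10)],
   [(5, 6), (30, 6), (44, 7), (67, 7)],
   [(15, 6), (31, 6), (49, 6), (62, 6)],
   [(3, 6), (14, 6), (32, 6), (75, 6)],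
   [(25, 7), (33, 6), (41, 7), (59, 6)],
   [(6, 10), (17, 10), (23, 3), (27, 3), (29, 3), (34, 3), (45, 10), (51, 3), (54, 3), (55, 10), (64, 10), (66, 3), (69, 3), (71, 10), (72, 10), (74, 10)],
   [(2, 6), (35, 6), (50, 7), (61, 7)],
   [(21, 7), (36, 6), (40, 6), (60, 7)],
   [(10, 7), (37, 6), (43, 6), (63, 7)],
   [(9, 7), (38, 6), (47, 7), (56, 6)],
   [(1, 7), (16, 7), (39, 6), (73, 6)],
   [(21, 6), (36, 6), (40, 6), (60, 6)],
   [(25, 7), (33, 7), (41, 6), (59, 6)],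
   [(11, 6), (20, 6), (42, 6), (70, 6)],
   [(10, 6), (37, 6), (43, 6), (63, 6)],
   [(5, 6), (30, 7), (44, 6), (67, 7)],
   [(6, 10), (17, 3), (23, 10), (27, 3), (29, 3), (34, 10), (45, 3), (51, 3), (54, 10), (55, 3), (64, 10), (66, 3), (69, 10), (71, 10), (72, 10), (74, 3)],
   [(12, 7), (19, 7), (46, 6), (68, 6)],
   [(9, 7), (38, 7), (47, 6), (56, 6)],
   [(7, 7), (28, 6), (48, 6), (65, 7)],
   [(15, 7), (31, 6), (49, 6), (62, 7)],
   [(2, 6), (35, 7), (50, 6), (61, 7)],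
   [(6, 10), (17, 3), (23, 10), (27, 3), (29, 10), (34, 3), (45, 3), (51, 3), (54, 3), (55, 10), (64, 3), (66, 10), (69, 10), (71, 10), (72, 3), (74, 10)],
   [(18, 6), (22, 6), (52, 6), (58, 6)],
   [(8, 7), (26, 7), (53, 6), (57, 6)],
   [(6, 3), (17, 10), (23, 10), (27, 3), (29, 10), (34, 3), (45, 10), (51, 3), (54, 3), (55, 3), (64, 10), (66, 10), (69, 10), (71, 3), (72, 10), (74, 3)],
   [(6, 3), (17, 10), (23, 10), (27, 3), (29, 3), (34, 10), (45, 3), (51, 10), (54, 3), (55, 3), (64, 10), (66, 10), (69, 3), (71, 10), (72, 3), (74, 10)],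
   [(9, 6), (38, 6), (47, 6), (56, 6)],
   [(8, 6), (26, 6), (53, 6), (57, 6)],
   [(18, 7), (22, 7), (52, 6), (58, 6)],
   [(25, 6), (33, 6), (41, 6), (59, 6)],
   [(21, 7), (36, 7), (40, 6), (60, 6)],
   [(2, 6), (35, 7), (50, 7), (61, 6)],
   [(15, 7), (31, 6), (49, 7), (62, 6)],
   [(10, 7), (37, 7), (43, 6), (63, 6)],
   [(6, 3), (17, 10), (23, 10), (27, 3), (29, 3), (34, 10), (45, 10), (51, 3), (54, 10), (55, 10), (64, 3), (66, 3), (69, 10), (71, 3), (72, 3), (74, 10)],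
   [(7, 7), (28, 6), (48, 7), (65, 6)],
   [(6, 3), (17, 10), (23, 10), (27, 3), (29, 10), (34, 3), (45, 3), (51, 10), (54, 10), (55, 10), (64, 3), (66, 3), (69, 3), (71, 10), (72, 10), (74, 3)],
   [(5, 6), (30, 7), (44, 7), (67, 6)],
   [(12, 6), (19, 6), (46, 6), (68, 6)],
   [(6, 10), (17, 3), (23, 10), (27, 3), (29, 10), (34, 3), (45, 10), (51, 10), (54, 10), (55, 3), (64, 10), (66, 3), (69, 3), (71, 3), (72, 3), (74, 10)],
   [(11, 7), (20, 7), (42, 6), (70, 6)],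
   [(6, 10), (17, 3), (23, 10), (27, 3), (29, 3), (34, 10), (45, 10), (51, 10), (54, 3), (55, 10), (64, 3), (66, 10), (69, 3), (71, 3), (72, 10), (74, 3)],
   [(6, 10), (17, 10), (23, 3), (27, 3), (29, 10), (34, 10), (45, 10), (51, 3), (54, 10), (55, 3), (64, 3), (66, 10), (69, 3), (71, 10), (72, 3), (74, 3)],
   [(1, 6), (16, 6), (39, 6), (73, 6)],
   [(6, 10), (17, 10), (23, 3), (27, 3), (29, 10), (34, 10), (45, 3), (51, 10), (54, 3), (55, 10), (64, 10), (66, 3), (69, 10), (71, 3), (72, 3), (74, 3)],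
   [(3, 7), (14, 7), (32, 6), (75, 6)],
   [(4, 6), (13, 6), (24, 6), (76, 6)],
   [(0, 1), (77, 6)]]

/-- data -/
def gen_c : SMat :=
  [[(0, 6), (16, 6), (39, 7), (73, 7)],
   [(1, 7), (77, 4)],
   [(2, 6), (12, 6), (52, 7), (67, 7)],
   [(3, 6), (13, 6), (54, 6), (66, 6)],
   [(4, 6), (14, 6), (51, 7), (69, 7)],
   [(5, 6), (18, 6), (50, 7), (68, 7)],
   [(6, 6), (10, 6), (38, 6), (74, 6)],
   [(7, 6), (8, 6), (49, 7), (70, 7)],
   [(7, 6), (8, 6), (49, 6), (70, 6)],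
   [(9, 6), (17, 6), (37, 7), (72, 7)],
   [(6, 6), (10, 6), (38, 7), (74, 7)],
   [(11, 6), (15, 6), (53, 6), (65, 6)],
   [(2, 6), (12, 6), (52, 6), (67, 6)],
   [(3, 6), (13, 6), (54, 7), (66, 7)],
   [(4, 6), (14, 6), (51, 6), (69, 6)],
   [(11, 6), (15, 6), (53, 7), (65, 7)],
   [(0, 6), (16, 6), (39, 6), (73, 6)],
   [(9, 6), (17, 6), (37, 6), (72, 6)],
   [(5, 6), (18, 6), (50, 6), (68, 6)],
   [(19, 6), (35, 6), (44, 6), (58, 6)],
   [(20, 6), (31, 6), (48, 6), (57, 6)],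
   [(21, 3), (24, 10), (25, 10), (32, 10), (33, 3), (36, 10), (43, 3), (45, 10), (47, 10), (55, 3), (56, 10), (63, 3), (64, 10), (71, 3), (75, 3), (76, 3)],
   [(22, 6), (30, 6), (46, 6), (61, 6)],
   [(23, 6), (34, 6), (40, 6), (59, 6)],
   [(21, 10), (24, 3), (25, 10), (32, 3), (33, 10), (36, 10), (43, 10), (45, 3), (47, 10), (55, 3), (56, 10), (63, 10), (64, 3), (71, 3), (75, 3), (76, 3)],
   [(21, 10), (24, 10), (25, 3), (32, 10), (33, 10), (36, 3), (43, 10), (45, 10), (47, 3), (55, 3), (56, 3), (63, 10), (64, 10), (71, 3), (75, 3), (76, 3)],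
   [(26, 6), (28, 6), (42, 6), (62, 6)],
   [(27, 6), (29, 6), (41, 6), (60, 6)],
   [(26, 6), (28, 6), (42, 7), (62, 7)],
   [(27, 6), (29, 6), (41, 7), (60, 7)],
   [(22, 6), (30, 6), (46, 7), (61, 7)],
   [(20, 6), (31, 6), (48, 7), (57, 7)],
   [(21, 10), (24, 3), (25, 10), (32, 3), (33, 10), (36, 10), (43, 3), (45, 10), (47, 3), (55, 10), (56, 3), (63, 3), (64, 10), (71, 10), (75, 3), (76, 3)],
   [(21, 3), (24, 10), (25, 10), (32, 10), (33, 3), (36, 10), (43, 10), (45, 3), (47, 3), (55, 10), (56, 3), (63, 10), (64, 3), (71, 10), (75, 3), (76, 3)],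
   [(23, 6), (34, 6), (40, 7), (59, 7)],
   [(19, 6), (35, 6), (44, 7), (58, 7)],
   [(21, 10), (24, 10), (25, 3), (32, 10), (33, 10), (36, 3), (43, 3), (45, 3), (47, 10), (55, 10), (56, 10), (63, 3), (64, 3), (71, 10), (75, 3), (76, 3)],
   [(9, 7), (17, 6), (37, 6), (72, 7)],
   [(6, 6), (10, 7), (38, 6), (74, 7)],
   [(0, 7), (16, 6), (39, 6), (73, 7)],
   [(23, 6), (34, 7), (40, 6), (59, 7)],
   [(27, 6), (29, 7), (41, 6), (60, 7)],
   [(26, 6), (28, 7), (42, 6), (62, 7)],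
   [(21, 3), (24, 10), (25, 10), (32, 3), (33, 10), (36, 3), (43, 3), (45, 10), (47, 10), (55, 10), (56, 3), (63, 10), (64, 3), (71, 3), (75, 10), (76, 3)],
   [(19, 6), (35, 7), (44, 6), (58, 7)],
   [(21, 10), (24, 3), (25, 10), (32, 10), (33, 3), (36, 3), (43, 10), (45, 3), (47, 10), (55, 10), (56, 3), (63, 3), (64, 10), (71, 3), (75, 10), (76, 3)],
   [(22, 6), (30, 7), (46, 6), (61, 7)],
   [(21, 10), (24, 10), (25, 3), (32, 3), (33, 3), (36, 10), (43, 10), (45, 10), (47, 3), (55, 10), (56, 10), (63, 3), (64, 3), (71, 3), (75, 10), (76, 3)],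
   [(20, 6), (31, 7), (48, 6), (57, 7)],
   [(7, 7), (8, 6), (49, 6), (70, 7)],
   [(5, 7), (18, 6), (50, 6), (68, 7)],
   [(4, 7), (14, 6), (51, 6), (69, 7)],
   [(2, 7), (12, 6), (52, 6), (67, 7)],
   [(11, 6), (15, 7), (53, 6), (65, 7)],
   [(3, 6), (13, 7), (54, 6), (66, 7)],
   [(21, 3), (24, 3), (25, 3), (32, 10), (33, 10), (36, 10), (43, 10), (45, 10), (47, 10), (55, 3), (56, 3), (63, 3), (64, 3), (71, 10), (75, 10), (76, 3)],
   [(21, 10), (24, 10), (25, 3), (32, 3), (33, 3), (36, 10), (43, 3), (45, 3), (47, 10), (55, 3), (56, 3), (63, 10), (64, 10), (71, 10), (75, 10), (76, 3)],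
   [(20, 6), (31, 7), (48, 7), (57, 6)],
   [(19, 6), (35, 7), (44, 7), (58, 6)],
   [(23, 6), (34, 7), (40, 7), (59, 6)],
   [(27, 6), (29, 7), (41, 7), (60, 6)],
   [(22, 6), (30, 7), (46, 7), (61, 6)],
   [(26, 6), (28, 7), (42, 7), (62, 6)],
   [(21, 3), (24, 10), (25, 10), (32, 3), (33, 10), (36, 3), (43, 10), (45, 3), (47, 3), (55, 3), (56, 10), (63, 3), (64, 10), (71, 10), (75, 10), (76, 3)],
   [(21, 10), (24, 3), (25, 10), (32, 10), (33, 3), (36, 3), (43, 3), (45, 10), (47, 3), (55, 3), (56, 10), (63, 10), (64, 3), (71, 10), (75, 10), (76, 3)],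
   [(11, 6), (15, 7), (53, 7), (65, 6)],
   [(3, 6), (13, 7), (54, 7), (66, 6)],
   [(2, 7), (12, 6), (52, 7), (67, 6)],
   [(5, 7), (18, 6), (50, 7), (68, 6)],
   [(4, 7), (14, 6), (51, 7), (69, 6)],
   [(7, 7), (8, 6), (49, 7), (70, 6)],
   [(21, 3), (24, 3), (25, 3), (32, 10), (33, 10), (36, 10), (43, 3), (45, 3), (47, 3), (55, 10), (56, 10), (63, 10), (64, 10), (71, 3), (75, 10), (76, 3)],
   [(9, 7), (17, 6), (37, 7), (72, 6)],
   [(0, 7), (16, 6), (39, 7), (73, 6)],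
   [(6, 6), (10, 7), (38, 7), (74, 6)],
   [(21, 3), (24, 3), (25, 3), (32, 3), (33, 3), (36, 3), (43, 10), (45, 10), (47, 10), (55, 10), (56, 10), (63, 10), (64, 10), (71, 10), (75, 3), (76, 3)],
   [(21, 3), (24, 3), (25, 3), (32, 3), (33, 3), (36, 3), (43, 3), (45, 3), (47, 3), (55, 3), (56, 3), (63, 3), (64, 3), (71, 3), (75, 3), (76, 3)],
   [(1, 1), (77, 6)]]

/-- data -/
def gen_d : SMat :=
  [[(0, 6), (11, 6), (20, 6), (70, 6)],
   [(1, 6), (26, 7), (28, 7), (62, 6)],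
   [(2, 6), (21, 6), (29, 7), (64, 7)],
   [(3, 6), (18, 7), (38, 6), (59, 7)],
   [(4, 3), (12, 10), (17, 3), (19, 10), (24, 3), (27, 3), (30, 3), (35, 3), (36, 10), (37, 10), (60, 3), (61, 10), (63, 3), (67, 10), (69, 10), (71, 10)],
   [(5, 6), (10, 6), (34, 7), (66, 7)],
   [(6, 6), (13, 7), (23, 7), (68, 6)],
   [(7, 6), (15, 7), (39, 6), (57, 7)],
   [(8, 6), (16, 7), (31, 7), (65, 6)],
   [(9, 6), (25, 7), (32, 7), (58, 6)],
   [(5, 6), (10, 6), (34, 6), (66, 6)],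
   [(0, 6), (11, 6), (20, 7), (70, 7)],
   [(4, 10), (12, 3), (17, 3), (19, 3), (24, 10), (27, 3), (30, 3), (35, 10), (36, 3), (37, 10), (60, 10), (61, 3), (63, 3), (67, 10), (69, 10), (71, 10)],
   [(6, 7), (13, 6), (23, 7), (68, 6)],
   [(14, 6), (22, 7), (33, 6), (56, 7)],
   [(7, 7), (15, 6), (39, 6), (57, 7)],
   [(8, 7), (16, 6), (31, 7), (65, 6)],
   [(4, 3), (12, 3), (17, 3), (19, 3), (24, 3), (27, 3), (30, 3), (35, 3), (36, 3), (37, 3), (60, 3), (61, 3), (63, 3), (67, 3), (69, 3), (71, 3)],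
   [(3, 7), (18, 6), (38, 6), (59, 7)],
   [(4, 10), (12, 3), (17, 3), (19, 3), (24, 10), (27, 3), (30, 10), (35, 3), (36, 10), (37, 3), (60, 3), (61, 10), (63, 10), (67, 3), (69, 10), (71, 10)],
   [(0, 6), (11, 7), (20, 6), (70, 7)],
   [(2, 6), (21, 6), (29, 6), (64, 6)],
   [(14, 7), (22, 6), (33, 6), (56, 7)],
   [(6, 7), (13, 7), (23, 6), (68, 6)],
   [(4, 3), (12, 10), (17, 3), (19, 10), (24, 3), (27, 3), (30, 10), (35, 10), (36, 3), (37, 3), (60, 10), (61, 3), (63, 10), (67, 3), (69, 10), (71, 10)],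
   [(9, 7), (25, 6), (32, 7), (58, 6)],
   [(1, 7), (26, 6), (28, 7), (62, 6)],
   [(4, 3), (12, 3), (17, 3), (19, 3), (24, 3), (27, 3), (30, 10), (35, 10), (36, 10), (37, 10), (60, 10), (61, 10), (63, 10), (67, 10), (69, 3), (71, 3)],
   [(1, 7), (26, 7), (28, 6), (62, 6)],
   [(2, 7), (21, 6), (29, 6), (64, 7)],
   [(4, 3), (12, 3), (17, 3), (19, 10), (24, 10), (27, 10), (30, 3), (35, 3), (36, 3), (37, 10), (60, 10), (61, 10), (63, 10), (67, 3), (69, 10), (71, 3)],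
   [(8, 7), (16, 7), (31, 6), (65, 6)],
   [(9, 7), (25, 7), (32, 6), (58, 6)],
   [(14, 6), (22, 6), (33, 6), (56, 6)],
   [(5, 7), (10, 6), (34, 6), (66, 7)],
   [(4, 3), (12, 10), (17, 3), (19, 3), (24, 10), (27, 10), (30, 3), (35, 3), (36, 10), (37, 3), (60, 10), (61, 3), (63, 10), (67, 10), (69, 3), (71, 10)],
   [(4, 10), (12, 3), (17, 3), (19, 10), (24, 3), (27, 10), (30, 3), (35, 10), (36, 3), (37, 3), (60, 3), (61, 10), (63, 10), (67, 10), (69, 3), (71, 10)],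
   [(4, 10), (12, 10), (17, 3), (19, 3), (24, 3), (27, 10), (30, 10), (35, 3), (36, 3), (37, 3), (60, 10), (61, 10), (63, 3), (67, 10), (69, 10), (71, 3)],
   [(3, 6), (18, 6), (38, 6), (59, 6)],
   [(7, 6), (15, 6), (39, 6), (57, 6)],
   [(40, 6), (50, 6), (54, 7), (74, 7)],
   [(41, 6), (47, 7), (52, 7), (75, 6)],
   [(42, 7), (77, 4)],
   [(43, 6), (44, 6), (55, 7), (72, 7)],
   [(43, 6), (44, 6), (55, 6), (72, 6)],
   [(45, 6), (46, 7), (51, 7), (76, 6)],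
   [(45, 7), (46, 6), (51, 7), (76, 6)],
   [(41, 7), (47, 6), (52, 7), (75, 6)],
   [(48, 6), (49, 7), (53, 6), (73, 7)],
   [(48, 7), (49, 6), (53, 6), (73, 7)],
   [(40, 6), (50, 6), (54, 6), (74, 6)],
   [(45, 7), (46, 7), (51, 6), (76, 6)],
   [(41, 7), (47, 7), (52, 6), (75, 6)],
   [(48, 6), (49, 6), (53, 6), (73, 6)],
   [(40, 7), (50, 6), (54, 6), (74, 7)],
   [(43, 7), (44, 6), (55, 6), (72, 7)],
   [(14, 7), (22, 7), (33, 6), (56, 6)],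
   [(7, 7), (15, 7), (39, 6), (57, 6)],
   [(9, 6), (25, 6), (32, 6), (58, 6)],
   [(3, 7), (18, 7), (38, 6), (59, 6)],
   [(4, 3), (12, 10), (17, 3), (19, 3), (24, 10), (27, 10), (30, 10), (35, 10), (36, 3), (37, 10), (60, 3), (61, 10), (63, 3), (67, 3), (69, 3), (71, 10)],
   [(4, 10), (12, 3), (17, 3), (19, 10), (24, 3), (27, 10), (30, 10), (35, 3), (36, 10), (37, 10), (60, 10), (61, 3), (63, 3), (67, 3), (69, 3), (71, 10)],
   [(1, 6), (26, 6), (28, 6), (62, 6)],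
   [(4, 3), (12, 3), (17, 3), (19, 10), (24, 10), (27, 10), (30, 10), (35, 10), (36, 10), (37, 3), (60, 3), (61, 3), (63, 3), (67, 10), (69, 10), (71, 3)],
   [(2, 7), (21, 6), (29, 7), (64, 6)],
   [(8, 6), (16, 6), (31, 6), (65, 6)],
   [(5, 7), (10, 6), (34, 7), (66, 6)],
   [(4, 10), (12, 10), (17, 3), (19, 3), (24, 3), (27, 10), (30, 3), (35, 10), (36, 10), (37, 10), (60, 3), (61, 3), (63, 10), (67, 3), (69, 10), (71, 3)],
   [(6, 6), (13, 6), (23, 6), (68, 6)],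
   [(4, 10), (12, 10), (17, 3), (19, 10), (24, 10), (27, 3), (30, 10), (35, 3), (36, 3), (37, 10), (60, 3), (61, 3), (63, 10), (67, 10), (69, 3), (71, 3)],
   [(0, 6), (11, 7), (20, 7), (70, 6)],
   [(4, 10), (12, 10), (17, 3), (19, 10), (24, 10), (27, 3), (30, 3), (35, 10), (36, 10), (37, 3), (60, 10), (61, 10), (63, 3), (67, 3), (69, 3), (71, 3)],
   [(43, 7), (44, 6), (55, 7), (72, 6)],
   [(48, 7), (49, 7), (53, 6), (73, 6)],
   [(40, 7), (50, 6), (54, 7), (74, 6)],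
   [(41, 6), (47, 6), (52, 6), (75, 6)],
   [(45, 6), (46, 6), (51, 6), (76, 6)],
   [(42, 1), (77, 6)]]

/-- data -/
def gen_e : SMat :=
  [[(0, 6), (2, 7), (35, 6), (50, 6)],
   [(1, 6), (22, 7), (30, 6), (46, 6)],
   [(0, 7), (2, 6), (35, 6), (50, 6)],
   [(3, 6), (17, 6), (29, 7), (49, 6)],
   [(4, 6), (25, 6), (28, 6), (43, 7)],
   [(5, 6), (16, 7), (19, 6), (52, 6)],
   [(6, 3), (14, 10), (15, 3), (20, 3), (21, 10), (26, 10), (31, 10), (32, 3), (34, 10), (38, 10), (40, 3), (42, 10), (47, 10), (51, 10), (53, 10), (55, 3)],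
   [(7, 6), (13, 7), (37, 6), (41, 6)],
   [(8, 6), (9, 7), (27, 6), (54, 6)],
   [(8, 7), (9, 6), (27, 6), (54, 6)],
   [(10, 6), (24, 6), (33, 7), (48, 6)],
   [(11, 6), (23, 7), (36, 6), (45, 6)],
   [(12, 6), (18, 6), (39, 6), (44, 7)],
   [(7, 7), (13, 6), (37, 6), (41, 6)],
   [(6, 10), (14, 3), (15, 3), (20, 10), (21, 10), (26, 3), (31, 10), (32, 10), (34, 3), (38, 10), (40, 10), (42, 10), (47, 3), (51, 10), (53, 10), (55, 3)],
   [(6, 3), (14, 3), (15, 3), (20, 10), (21, 10), (26, 10), (31, 10), (32, 10), (34, 10), (38, 3), (40, 10), (42, 10), (47, 10), (51, 3), (53, 3), (55, 10)],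
   [(5, 7), (16, 6), (19, 6), (52, 6)],
   [(3, 6), (17, 6), (29, 6), (49, 7)],
   [(12, 6), (18, 6), (39, 7), (44, 6)],
   [(5, 6), (16, 6), (19, 6), (52, 7)],
   [(6, 3), (14, 10), (15, 10), (20, 3), (21, 3), (26, 10), (31, 10), (32, 10), (34, 3), (38, 10), (40, 10), (42, 10), (47, 3), (51, 10), (53, 3), (55, 10)],
   [(6, 10), (14, 10), (15, 10), (20, 3), (21, 3), (26, 3), (31, 10), (32, 10), (34, 10), (38, 3), (40, 10), (42, 10), (47, 10), (51, 3), (53, 10), (55, 3)],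
   [(1, 7), (22, 6), (30, 6), (46, 6)],
   [(11, 7), (23, 6), (36, 6), (45, 6)],
   [(10, 6), (24, 6), (33, 6), (48, 7)],
   [(4, 6), (25, 6), (28, 7), (43, 6)],
   [(6, 10), (14, 3), (15, 10), (20, 10), (21, 3), (26, 3), (31, 10), (32, 3), (34, 10), (38, 10), (40, 3), (42, 10), (47, 10), (51, 10), (53, 3), (55, 10)],
   [(8, 6), (9, 6), (27, 6), (54, 7)],
   [(4, 6), (25, 7), (28, 6), (43, 6)],
   [(3, 7), (17, 6), (29, 6), (49, 6)],
   [(1, 6), (22, 6), (30, 6), (46, 7)],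
   [(6, 10), (14, 10), (15, 10), (20, 10), (21, 10), (26, 10), (31, 3), (32, 3), (34, 3), (38, 3), (40, 10), (42, 10), (47, 10), (51, 10), (53, 3), (55, 3)],
   [(6, 3), (14, 10), (15, 10), (20, 10), (21, 10), (26, 3), (31, 3), (32, 3), (34, 10), (38, 10), (40, 10), (42, 10), (47, 3), (51, 3), (53, 10), (55, 10)],
   [(10, 7), (24, 6), (33, 6), (48, 6)],
   [(6, 10), (14, 3), (15, 10), (20, 3), (21, 10), (26, 10), (31, 3), (32, 10), (34, 3), (38, 10), (40, 3), (42, 10), (47, 10), (51, 3), (53, 10), (55, 10)],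
   [(0, 6), (2, 6), (35, 6), (50, 7)],
   [(11, 6), (23, 6), (36, 6), (45, 7)],
   [(7, 6), (13, 6), (37, 6), (41, 7)],
   [(6, 10), (14, 10), (15, 3), (20, 10), (21, 3), (26, 10), (31, 3), (32, 10), (34, 10), (38, 3), (40, 3), (42, 10), (47, 3), (51, 10), (53, 10), (55, 10)],
   [(12, 6), (18, 7), (39, 6), (44, 6)],
   [(6, 3), (14, 10), (15, 10), (20, 10), (21, 10), (26, 3), (31, 10), (32, 10), (34, 3), (38, 3), (40, 3), (42, 3), (47, 10), (51, 10), (53, 10), (55, 10)],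
   [(7, 6), (13, 6), (37, 7), (41, 6)],
   [(6, 10), (14, 10), (15, 10), (20, 10), (21, 10), (26, 10), (31, 10), (32, 10), (34, 10), (38, 10), (40, 3), (42, 3), (47, 3), (51, 3), (53, 3), (55, 3)],
   [(4, 7), (25, 6), (28, 6), (43, 6)],
   [(12, 7), (18, 6), (39, 6), (44, 6)],
   [(11, 6), (23, 6), (36, 7), (45, 6)],
   [(1, 6), (22, 6), (30, 7), (46, 6)],
   [(6, 10), (14, 3), (15, 10), (20, 3), (21, 10), (26, 10), (31, 10), (32, 3), (34, 10), (38, 3), (40, 10), (42, 3), (47, 3), (51, 10), (53, 10), (55, 10)],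
   [(10, 6), (24, 7), (33, 6), (48, 6)],
   [(3, 6), (17, 7), (29, 6), (49, 6)],
   [(0, 6), (2, 6), (35, 7), (50, 6)],
   [(6, 10), (14, 10), (15, 3), (20, 10), (21, 3), (26, 10), (31, 10), (32, 3), (34, 3), (38, 10), (40, 10), (42, 3), (47, 10), (51, 3), (53, 10), (55, 10)],
   [(5, 6), (16, 6), (19, 7), (52, 6)],
   [(6, 10), (14, 10), (15, 3), (20, 3), (21, 10), (26, 3), (31, 3), (32, 10), (34, 10), (38, 10), (40, 10), (42, 3), (47, 10), (51, 10), (53, 3), (55, 10)],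
   [(8, 6), (9, 6), (27, 7), (54, 6)],
   [(6, 3), (14, 3), (15, 10), (20, 10), (21, 3), (26, 10), (31, 3), (32, 10), (34, 10), (38, 10), (40, 10), (42, 3), (47, 10), (51, 10), (53, 10), (55, 3)],
   [(56, 6), (57, 7), (71, 6), (74, 6)],
   [(56, 7), (57, 6), (71, 6), (74, 6)],
   [(58, 6), (67, 6), (68, 7), (73, 6)],
   [(59, 6), (63, 6), (65, 7), (76, 6)],
   [(60, 6), (66, 6), (70, 6), (72, 7)],
   [(61, 7), (77, 9)],
   [(62, 6), (64, 7), (69, 6), (75, 6)],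
   [(59, 6), (63, 6), (65, 6), (76, 7)],
   [(62, 7), (64, 6), (69, 6), (75, 6)],
   [(59, 7), (63, 6), (65, 6), (76, 6)],
   [(60, 6), (66, 6), (70, 7), (72, 6)],
   [(58, 6), (67, 6), (68, 6), (73, 7)],
   [(58, 7), (67, 6), (68, 6), (73, 6)],
   [(62, 6), (64, 6), (69, 6), (75, 7)],
   [(60, 6), (66, 7), (70, 6), (72, 6)],
   [(56, 6), (57, 6), (71, 6), (74, 7)],
   [(60, 7), (66, 6), (70, 6), (72, 6)],
   [(58, 6), (67, 7), (68, 6), (73, 6)],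
   [(56, 6), (57, 6), (71, 7), (74, 6)],
   [(62, 6), (64, 6), (69, 7), (75, 6)],
   [(59, 6), (63, 7), (65, 6), (76, 6)],
   [(61, 12), (77, 6)]]

/-- data -/
def gen_f : SMat :=
  [[(0, 1)],
   [(1, 1)],
   [(2, 12)],
   [(3, 12)],
   [(4, 12)],
   [(5, 12)],
   [(6, 12)],
   [(7, 1)],
   [(8, 1)],
   [(9, 12)],
   [(10, 12)],
   [(11, 1)],
   [(12, 12)],
   [(13, 12)],
   [(14, 12)],
   [(15, 1)],
   [(16, 1)],
   [(17, 12)],
   [(18, 12)],
   [(19, 12)],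
   [(20, 1)],
   [(21, 12)],
   [(22, 12)],
   [(23, 12)],
   [(24, 12)],
   [(25, 12)],
   [(26, 1)],
   [(27, 12)],
   [(28, 1)],
   [(29, 12)],
   [(30, 12)],
   [(31, 1)],
   [(32, 12)],
   [(33, 12)],
   [(34, 12)],
   [(35, 12)],
   [(36, 12)],
   [(37, 12)],
   [(38, 12)],
   [(39, 1)],
   [(40, 12)],
   [(41, 12)],
   [(42, 1)],
   [(43, 12)],
   [(44, 12)],
   [(45, 12)],
   [(46, 12)],
   [(47, 12)],
   [(48, 1)],
   [(49, 1)],
   [(50, 12)],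
   [(51, 12)],
   [(52, 12)],
   [(53, 1)],
   [(54, 12)],
   [(55, 12)],
   [(56, 12)],
   [(57, 1)],
   [(58, 12)],
   [(59, 12)],
   [(60, 12)],
   [(61, 12)],
   [(62, 1)],
   [(63, 12)],
   [(64, 12)],
   [(65, 1)],
   [(66, 12)],
   [(67, 12)],
   [(68, 12)],
   [(69, 12)],
   [(70, 1)],
   [(71, 12)],
   [(72, 12)],
   [(73, 1)],
   [(74, 12)],
   [(75, 12)],
   [(76, 12)],
   [(77, 1)]]

/-- data -/
def gen_g : SMat :=
  [[(0, 6), (2, 7), (35, 6), (61, 6)],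
   [(1, 6), (5, 6), (18, 7), (68, 6)],
   [(0, 7), (2, 6), (35, 6), (61, 6)],
   [(3, 6), (6, 7), (34, 6), (62, 6)],
   [(4, 6), (7, 6), (33, 6), (63, 7)],
   [(1, 6), (5, 6), (18, 6), (68, 7)],
   [(3, 7), (6, 6), (34, 6), (62, 6)],
   [(4, 6), (7, 6), (33, 7), (63, 6)],
   [(8, 3), (9, 3), (11, 3), (14, 3), (15, 3), (17, 3), (29, 3), (31, 3), (32, 3), (36, 3), (56, 10), (57, 10), (60, 10), (64, 10), (69, 10), (70, 10)],
   [(8, 3), (9, 3), (11, 10), (14, 3), (15, 3), (17, 10), (29, 10), (31, 3), (32, 3), (36, 10), (56, 10), (57, 10), (60, 3), (64, 3), (69, 3), (70, 3)],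
   [(10, 6), (13, 7), (28, 7), (59, 7)],
   [(8, 3), (9, 10), (11, 3), (14, 3), (15, 10), (17, 3), (29, 3), (31, 10), (32, 3), (36, 10), (56, 10), (57, 3), (60, 10), (64, 3), (69, 3), (70, 3)],
   [(12, 6), (16, 7), (30, 7), (58, 7)],
   [(10, 7), (13, 6), (28, 7), (59, 7)],
   [(8, 3), (9, 3), (11, 3), (14, 3), (15, 3), (17, 3), (29, 10), (31, 10), (32, 10), (36, 10), (56, 3), (57, 3), (60, 3), (64, 3), (69, 10), (70, 10)],
   [(8, 3), (9, 3), (11, 10), (14, 3), (15, 3), (17, 10), (29, 3), (31, 10), (32, 10), (36, 3), (56, 3), (57, 3), (60, 10), (64, 10), (69, 3), (70, 3)],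
   [(12, 7), (16, 6), (30, 7), (58, 7)],
   [(8, 3), (9, 10), (11, 3), (14, 3), (15, 10), (17, 3), (29, 10), (31, 3), (32, 10), (36, 3), (56, 3), (57, 10), (60, 3), (64, 10), (69, 3), (70, 3)],
   [(1, 7), (5, 6), (18, 6), (68, 6)],
   [(19, 6), (22, 7), (39, 7), (67, 7)],
   [(20, 6), (21, 7), (27, 7), (71, 7)],
   [(20, 7), (21, 6), (27, 7), (71, 7)],
   [(19, 7), (22, 6), (39, 7), (67, 7)],
   [(23, 6), (26, 7), (38, 6), (66, 6)],
   [(24, 6), (25, 6), (37, 7), (65, 6)],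
   [(24, 6), (25, 6), (37, 6), (65, 7)],
   [(23, 7), (26, 6), (38, 6), (66, 6)],
   [(20, 7), (21, 7), (27, 6), (71, 7)],
   [(10, 7), (13, 7), (28, 6), (59, 7)],
   [(8, 3), (9, 10), (11, 3), (14, 10), (15, 3), (17, 10), (29, 3), (31, 10), (32, 3), (36, 3), (56, 3), (57, 10), (60, 3), (64, 3), (69, 10), (70, 3)],
   [(12, 7), (16, 7), (30, 6), (58, 7)],
   [(8, 3), (9, 3), (11, 10), (14, 10), (15, 10), (17, 3), (29, 10), (31, 3), (32, 3), (36, 3), (56, 3), (57, 3), (60, 10), (64, 3), (69, 10), (70, 3)],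
   [(8, 3), (9, 3), (11, 3), (14, 10), (15, 10), (17, 10), (29, 3), (31, 3), (32, 3), (36, 10), (56, 3), (57, 3), (60, 3), (64, 10), (69, 3), (70, 10)],
   [(4, 6), (7, 7), (33, 6), (63, 6)],
   [(3, 6), (6, 6), (34, 6), (62, 7)],
   [(0, 6), (2, 6), (35, 6), (61, 7)],
   [(8, 3), (9, 10), (11, 10), (14, 10), (15, 3), (17, 3), (29, 3), (31, 3), (32, 10), (36, 3), (56, 10), (57, 3), (60, 3), (64, 3), (69, 3), (70, 10)],
   [(24, 7), (25, 6), (37, 6), (65, 6)],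
   [(23, 6), (26, 6), (38, 6), (66, 7)],
   [(19, 7), (22, 7), (39, 6), (67, 7)],
   [(40, 6), (42, 7), (54, 7), (74, 7)],
   [(41, 6), (43, 7), (48, 7), (76, 7)],
   [(40, 7), (42, 6), (54, 7), (74, 7)],
   [(41, 7), (43, 6), (48, 7), (76, 7)],
   [(44, 6), (46, 7), (52, 6), (73, 6)],
   [(45, 6), (47, 6), (53, 7), (72, 6)],
   [(44, 7), (46, 6), (52, 6), (73, 6)],
   [(45, 6), (47, 6), (53, 6), (72, 7)],
   [(41, 7), (43, 7), (48, 6), (76, 7)],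
   [(49, 6), (51, 6), (55, 7), (75, 6)],
   [(50, 7), (77, 9)],
   [(49, 6), (51, 6), (55, 6), (75, 7)],
   [(44, 6), (46, 6), (52, 6), (73, 7)],
   [(45, 7), (47, 6), (53, 6), (72, 6)],
   [(40, 7), (42, 7), (54, 6), (74, 7)],
   [(49, 7), (51, 6), (55, 6), (75, 6)],
   [(8, 10), (9, 10), (11, 10), (14, 3), (15, 3), (17, 3), (29, 3), (31, 3), (32, 3), (36, 10), (56, 3), (57, 3), (60, 3), (64, 10), (69, 10), (70, 3)],
   [(8, 10), (9, 10), (11, 3), (14, 3), (15, 3), (17, 10), (29, 10), (31, 3), (32, 3), (36, 3), (56, 3), (57, 3), (60, 10), (64, 3), (69, 3), (70, 10)],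
   [(12, 7), (16, 7), (30, 7), (58, 6)],
   [(10, 7), (13, 7), (28, 7), (59, 6)],
   [(8, 10), (9, 3), (11, 10), (14, 3), (15, 10), (17, 3), (29, 3), (31, 10), (32, 3), (36, 3), (56, 3), (57, 10), (60, 3), (64, 3), (69, 3), (70, 10)],
   [(0, 6), (2, 6), (35, 7), (61, 6)],
   [(3, 6), (6, 6), (34, 7), (62, 6)],
   [(4, 7), (7, 6), (33, 6), (63, 6)],
   [(8, 10), (9, 3), (11, 3), (14, 3), (15, 10), (17, 10), (29, 3), (31, 3), (32, 10), (36, 3), (56, 10), (57, 3), (60, 3), (64, 3), (69, 10), (70, 3)],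
   [(24, 6), (25, 7), (37, 6), (65, 6)],
   [(23, 6), (26, 6), (38, 7), (66, 6)],
   [(19, 7), (22, 7), (39, 7), (67, 6)],
   [(1, 6), (5, 7), (18, 6), (68, 6)],
   [(8, 10), (9, 3), (11, 3), (14, 10), (15, 3), (17, 3), (29, 10), (31, 10), (32, 3), (36, 3), (56, 10), (57, 3), (60, 3), (64, 10), (69, 3), (70, 3)],
   [(8, 10), (9, 3), (11, 3), (14, 10), (15, 3), (17, 3), (29, 3), (31, 3), (32, 10), (36, 10), (56, 3), (57, 10), (60, 10), (64, 3), (69, 3), (70, 3)],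
   [(20, 7), (21, 7), (27, 7), (71, 6)],
   [(45, 6), (47, 7), (53, 6), (72, 6)],
   [(44, 6), (46, 6), (52, 7), (73, 6)],
   [(40, 7), (42, 7), (54, 7), (74, 6)],
   [(49, 6), (51, 7), (55, 6), (75, 6)],
   [(41, 7), (43, 7), (48, 7), (76, 6)],
   [(50, 12), (77, 6)]]

/-- data -/
def gen_h : SMat :=
  [[(0, 7), (77, 4)],
   [(1, 6), (16, 6), (39, 7), (73, 7)],
   [(2, 6), (35, 6), (50, 6), (61, 6)],
   [(3, 6), (14, 6), (32, 7), (75, 7)],
   [(4, 6), (13, 6), (24, 6), (76, 6)],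
   [(5, 6), (30, 7), (44, 7), (67, 6)],
   [(6, 3), (17, 10), (23, 10), (27, 3), (29, 3), (34, 10), (45, 3), (51, 10), (54, 3), (55, 3), (64, 10), (66, 10), (69, 3), (71, 10), (72, 3), (74, 10)],
   [(7, 6), (28, 7), (48, 7), (65, 6)],
   [(8, 6), (26, 7), (53, 7), (57, 6)],
   [(9, 6), (38, 7), (47, 7), (56, 6)],
   [(10, 6), (37, 7), (43, 7), (63, 6)],
   [(11, 6), (20, 6), (42, 7), (70, 7)],
   [(12, 6), (19, 6), (46, 7), (68, 7)],
   [(4, 6), (13, 6), (24, 7), (76, 7)],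
   [(3, 6), (14, 6), (32, 6), (75, 6)],
   [(15, 6), (31, 6), (49, 6), (62, 6)],
   [(1, 6), (16, 6), (39, 6), (73, 6)],
   [(6, 10), (17, 3), (23, 3), (27, 10), (29, 10), (34, 3), (45, 3), (51, 10), (54, 3), (55, 3), (64, 10), (66, 10), (69, 3), (71, 10), (72, 10), (74, 3)],
   [(18, 6), (22, 7), (52, 7), (58, 6)],
   [(12, 6), (19, 6), (46, 6), (68, 6)],
   [(11, 6), (20, 6), (42, 6), (70, 6)],
   [(21, 6), (36, 6), (40, 6), (60, 6)],
   [(18, 7), (22, 6), (52, 7), (58, 6)],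
   [(6, 10), (17, 3), (23, 3), (27, 10), (29, 3), (34, 10), (45, 10), (51, 3), (54, 3), (55, 3), (64, 10), (66, 10), (69, 10), (71, 3), (72, 3), (74, 10)],
   [(4, 6), (13, 7), (24, 6), (76, 7)],
   [(25, 6), (33, 6), (41, 6), (59, 6)],
   [(8, 7), (26, 6), (53, 7), (57, 6)],
   [(6, 3), (17, 10), (23, 10), (27, 3), (29, 10), (34, 3), (45, 10), (51, 3), (54, 3), (55, 3), (64, 10), (66, 10), (69, 10), (71, 3), (72, 10), (74, 3)],
   [(7, 7), (28, 6), (48, 7), (65, 6)],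
   [(6, 3), (17, 10), (23, 3), (27, 10), (29, 3), (34, 10), (45, 3), (51, 3), (54, 3), (55, 10), (64, 3), (66, 10), (69, 10), (71, 10), (72, 10), (74, 3)],
   [(5, 7), (30, 6), (44, 7), (67, 6)],
   [(15, 6), (31, 6), (49, 7), (62, 7)],
   [(3, 7), (14, 6), (32, 6), (75, 7)],
   [(25, 6), (33, 6), (41, 7), (59, 7)],
   [(6, 10), (17, 3), (23, 10), (27, 3), (29, 10), (34, 3), (45, 3), (51, 3), (54, 3), (55, 10), (64, 3), (66, 10), (69, 10), (71, 10), (72, 3), (74, 10)],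
   [(2, 6), (35, 6), (50, 7), (61, 7)],
   [(21, 6), (36, 6), (40, 7), (60, 7)],
   [(10, 7), (37, 6), (43, 7), (63, 6)],
   [(9, 7), (38, 6), (47, 7), (56, 6)],
   [(1, 7), (16, 6), (39, 6), (73, 7)],
   [(21, 6), (36, 7), (40, 6), (60, 7)],
   [(25, 6), (33, 7), (41, 6), (59, 7)],
   [(11, 7), (20, 6), (42, 6), (70, 7)],
   [(10, 7), (37, 7), (43, 6), (63, 6)],
   [(5, 7), (30, 7), (44, 6), (67, 6)],
   [(6, 3), (17, 3), (23, 10), (27, 10), (29, 3), (34, 3), (45, 3), (51, 10), (54, 3), (55, 10), (64, 10), (66, 3), (69, 10), (71, 3), (72, 10), (74, 10)],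
   [(12, 7), (19, 6), (46, 6), (68, 7)],
   [(9, 7), (38, 7), (47, 6), (56, 6)],
   [(7, 7), (28, 7), (48, 6), (65, 6)],
   [(15, 6), (31, 7), (49, 6), (62, 7)],
   [(2, 6), (35, 7), (50, 6), (61, 7)],
   [(6, 10), (17, 10), (23, 3), (27, 3), (29, 3), (34, 3), (45, 10), (51, 3), (54, 3), (55, 10), (64, 10), (66, 3), (69, 3), (71, 10), (72, 10), (74, 10)],
   [(18, 7), (22, 7), (52, 6), (58, 6)],
   [(8, 7), (26, 7), (53, 6), (57, 6)],
   [(6, 3), (17, 3), (23, 3), (27, 3), (29, 3), (34, 3), (45, 3), (51, 3), (54, 3), (55, 3), (64, 3), (66, 3), (69, 3), (71, 3), (72, 3), (74, 3)],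
   [(6, 3), (17, 3), (23, 3), (27, 3), (29, 10), (34, 10), (45, 10), (51, 10), (54, 3), (55, 3), (64, 3), (66, 3), (69, 10), (71, 10), (72, 10), (74, 10)],
   [(9, 6), (38, 6), (47, 6), (56, 6)],
   [(8, 6), (26, 6), (53, 6), (57, 6)],
   [(18, 6), (22, 6), (52, 6), (58, 6)],
   [(25, 6), (33, 7), (41, 7), (59, 6)],
   [(21, 6), (36, 7), (40, 7), (60, 6)],
   [(2, 6), (35, 7), (50, 7), (61, 6)],
   [(15, 6), (31, 7), (49, 7), (62, 6)],
   [(10, 6), (37, 6), (43, 6), (63, 6)],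
   [(6, 10), (17, 10), (23, 10), (27, 10), (29, 3), (34, 3), (45, 10), (51, 10), (54, 3), (55, 3), (64, 3), (66, 3), (69, 10), (71, 10), (72, 3), (74, 3)],
   [(7, 6), (28, 6), (48, 6), (65, 6)],
   [(6, 10), (17, 10), (23, 10), (27, 10), (29, 10), (34, 10), (45, 3), (51, 3), (54, 3), (55, 3), (64, 3), (66, 3), (69, 3), (71, 3), (72, 10), (74, 10)],
   [(5, 6), (30, 6), (44, 6), (67, 6)],
   [(12, 7), (19, 6), (46, 7), (68, 6)],
   [(6, 3), (17, 3), (23, 10), (27, 10), (29, 10), (34, 10), (45, 10), (51, 3), (54, 3), (55, 10), (64, 10), (66, 3), (69, 3), (71, 10), (72, 3), (74, 3)],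
   [(11, 7), (20, 6), (42, 7), (70, 6)],
   [(6, 10), (17, 10), (23, 3), (27, 3), (29, 10), (34, 10), (45, 3), (51, 10), (54, 3), (55, 10), (64, 10), (66, 3), (69, 10), (71, 3), (72, 3), (74, 3)],
   [(6, 3), (17, 10), (23, 3), (27, 10), (29, 10), (34, 3), (45, 10), (51, 10), (54, 3), (55, 10), (64, 3), (66, 10), (69, 3), (71, 3), (72, 3), (74, 10)],
   [(1, 7), (16, 6), (39, 7), (73, 6)],
   [(6, 10), (17, 3), (23, 10), (27, 3), (29, 3), (34, 10), (45, 10), (51, 10), (54, 3), (55, 10), (64, 3), (66, 10), (69, 3), (71, 3), (72, 10), (74, 3)],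
   [(3, 7), (14, 6), (32, 7), (75, 6)],
   [(4, 6), (13, 7), (24, 7), (76, 6)],
   [(0, 1), (77, 6)]]

/-- data -/
def gen_i : SMat :=
  [[(0, 6), (15, 6), (31, 7), (62, 6)],
   [(1, 6), (7, 6), (8, 7), (70, 6)],
   [(2, 3), (6, 10), (10, 3), (12, 10), (14, 10), (18, 10), (32, 3), (33, 10), (34, 3), (35, 10), (58, 3), (59, 10), (63, 10), (64, 3), (68, 10), (69, 10)],
   [(3, 6), (17, 6), (29, 7), (61, 6)],
   [(4, 6), (5, 6), (36, 6), (56, 7)],
   [(4, 6), (5, 6), (36, 7), (56, 6)],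
   [(2, 10), (6, 3), (10, 10), (12, 3), (14, 10), (18, 10), (32, 3), (33, 10), (34, 10), (35, 3), (58, 10), (59, 3), (63, 10), (64, 3), (68, 10), (69, 10)],
   [(1, 6), (7, 6), (8, 6), (70, 7)],
   [(1, 7), (7, 6), (8, 6), (70, 6)],
   [(9, 6), (13, 6), (30, 6), (60, 7)],
   [(2, 3), (6, 10), (10, 3), (12, 10), (14, 10), (18, 10), (32, 10), (33, 3), (34, 10), (35, 3), (58, 10), (59, 3), (63, 3), (64, 10), (68, 10), (69, 10)],
   [(11, 6), (16, 6), (28, 6), (57, 7)],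
   [(2, 10), (6, 3), (10, 10), (12, 3), (14, 10), (18, 10), (32, 10), (33, 3), (34, 3), (35, 10), (58, 3), (59, 10), (63, 3), (64, 10), (68, 10), (69, 10)],
   [(9, 6), (13, 6), (30, 7), (60, 6)],
   [(2, 10), (6, 10), (10, 10), (12, 10), (14, 3), (18, 3), (32, 10), (33, 10), (34, 3), (35, 3), (58, 10), (59, 10), (63, 3), (64, 3), (68, 10), (69, 10)],
   [(0, 6), (15, 6), (31, 6), (62, 7)],
   [(11, 6), (16, 6), (28, 7), (57, 6)],
   [(3, 6), (17, 6), (29, 6), (61, 7)],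
   [(2, 10), (6, 10), (10, 10), (12, 10), (14, 3), (18, 3), (32, 3), (33, 3), (34, 10), (35, 10), (58, 3), (59, 3), (63, 10), (64, 10), (68, 10), (69, 10)],
   [(19, 6), (23, 7), (25, 6), (71, 6)],
   [(20, 6), (26, 6), (39, 6), (65, 7)],
   [(21, 6), (24, 6), (38, 7), (67, 6)],
   [(22, 6), (27, 6), (37, 7), (66, 6)],
   [(19, 7), (23, 6), (25, 6), (71, 6)],
   [(21, 6), (24, 6), (38, 6), (67, 7)],
   [(19, 6), (23, 6), (25, 6), (71, 7)],
   [(20, 6), (26, 6), (39, 7), (65, 6)],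
   [(22, 6), (27, 6), (37, 6), (66, 7)],
   [(11, 6), (16, 7), (28, 6), (57, 6)],
   [(3, 7), (17, 6), (29, 6), (61, 6)],
   [(9, 6), (13, 7), (30, 6), (60, 6)],
   [(0, 7), (15, 6), (31, 6), (62, 6)],
   [(2, 3), (6, 3), (10, 10), (12, 10), (14, 10), (18, 3), (32, 3), (33, 10), (34, 10), (35, 10), (58, 10), (59, 10), (63, 3), (64, 10), (68, 10), (69, 3)],
   [(2, 10), (6, 10), (10, 3), (12, 3), (14, 10), (18, 3), (32, 10), (33, 3), (34, 10), (35, 10), (58, 10), (59, 10), (63, 10), (64, 3), (68, 10), (69, 3)],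
   [(2, 3), (6, 10), (10, 10), (12, 3), (14, 3), (18, 10), (32, 10), (33, 10), (34, 3), (35, 10), (58, 10), (59, 3), (63, 10), (64, 10), (68, 10), (69, 3)],
   [(2, 10), (6, 3), (10, 3), (12, 10), (14, 3), (18, 10), (32, 10), (33, 10), (34, 10), (35, 3), (58, 3), (59, 10), (63, 10), (64, 10), (68, 10), (69, 3)],
   [(4, 6), (5, 7), (36, 6), (56, 6)],
   [(22, 7), (27, 6), (37, 6), (66, 6)],
   [(21, 7), (24, 6), (38, 6), (67, 6)],
   [(20, 6), (26, 7), (39, 6), (65, 6)],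
   [(40, 6), (44, 7), (47, 6), (76, 6)],
   [(41, 6), (46, 6), (54, 6), (72, 7)],
   [(42, 6), (48, 6), (53, 7), (73, 6)],
   [(43, 6), (45, 6), (52, 7), (74, 6)],
   [(40, 7), (44, 6), (47, 6), (76, 6)],
   [(43, 6), (45, 6), (52, 6), (74, 7)],
   [(41, 6), (46, 6), (54, 7), (72, 6)],
   [(40, 6), (44, 6), (47, 6), (76, 7)],
   [(42, 6), (48, 6), (53, 6), (73, 7)],
   [(49, 7), (77, 9)],
   [(50, 6), (51, 6), (55, 7), (75, 6)],
   [(50, 6), (51, 6), (55, 6), (75, 7)],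
   [(43, 7), (45, 6), (52, 6), (74, 6)],
   [(42, 7), (48, 6), (53, 6), (73, 6)],
   [(41, 6), (46, 7), (54, 6), (72, 6)],
   [(50, 7), (51, 6), (55, 6), (75, 6)],
   [(4, 7), (5, 6), (36, 6), (56, 6)],
   [(11, 7), (16, 6), (28, 6), (57, 6)],
   [(2, 3), (6, 10), (10, 10), (12, 3), (14, 10), (18, 3), (32, 10), (33, 10), (34, 10), (35, 3), (58, 3), (59, 10), (63, 10), (64, 10), (68, 3), (69, 10)],
   [(2, 10), (6, 3), (10, 3), (12, 10), (14, 10), (18, 3), (32, 10), (33, 10), (34, 3), (35, 10), (58, 10), (59, 3), (63, 10), (64, 10), (68, 3), (69, 10)],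
   [(9, 7), (13, 6), (30, 6), (60, 6)],
   [(3, 6), (17, 7), (29, 6), (61, 6)],
   [(0, 6), (15, 7), (31, 6), (62, 6)],
   [(2, 10), (6, 10), (10, 3), (12, 3), (14, 3), (18, 10), (32, 3), (33, 10), (34, 10), (35, 10), (58, 10), (59, 10), (63, 3), (64, 10), (68, 3), (69, 10)],
   [(2, 3), (6, 3), (10, 10), (12, 10), (14, 3), (18, 10), (32, 10), (33, 3), (34, 10), (35, 10), (58, 10), (59, 10), (63, 10), (64, 3), (68, 3), (69, 10)],
   [(20, 7), (26, 6), (39, 6), (65, 6)],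
   [(22, 6), (27, 7), (37, 6), (66, 6)],
   [(21, 6), (24, 7), (38, 6), (67, 6)],
   [(2, 10), (6, 10), (10, 10), (12, 10), (14, 10), (18, 10), (32, 10), (33, 10), (34, 10), (35, 10), (58, 3), (59, 3), (63, 3), (64, 3), (68, 3), (69, 3)],
   [(2, 10), (6, 10), (10, 10), (12, 10), (14, 10), (18, 10), (32, 3), (33, 3), (34, 3), (35, 3), (58, 10), (59, 10), (63, 10), (64, 10), (68, 3), (69, 3)],
   [(1, 6), (7, 7), (8, 6), (70, 6)],
   [(19, 6), (23, 6), (25, 7), (71, 6)],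
   [(41, 7), (46, 6), (54, 6), (72, 6)],
   [(42, 6), (48, 7), (53, 6), (73, 6)],
   [(43, 6), (45, 7), (52, 6), (74, 6)],
   [(50, 6), (51, 7), (55, 6), (75, 6)],
   [(40, 6), (44, 6), (47, 7), (76, 6)],
   [(49, 12), (77, 6)]]

/-- The matrix of a generator. -/
def genS : Cfsg.Spor.Fi22.Gen → SMat
  | .a => gen_a
  | .b => gen_b
  | .c => gen_c
  | .d => gen_d
  | .e => gen_e
  | .f => gen_f
  | .g => gen_g
  | .h => gen_h
  | .i => gen_i

end Cfsg.Agent.FiTwoTwoRep
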